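import Groth.Prelude.Def_CohTop
import Groth.Agent.CechCmp.MathlibCech
import Groth.Agent.CechCmp.SysHom
import Groth.Agent.S0455
import Mathlib.Topology.Bases

/-!
# Čech vanishing from surjective restrictions
-/

set_option autoImplicit false
set_option linter.style.haveILetI false
set_option backward.isDefEq.respectTransparency false

universe u

open CategoryTheory CategoryTheory.Limits TopologicalSpace Opposite

namespace Groth.Agent.CechSurj

open CechCmp

/-- A bijection on nonempty index sets transfers vanishing. -/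
theorem subsingleton_H_of_hom {R ι : Type u} [CommRing R] [DecidableEq ι] {S G : Sys R ι} (f : Sys.Hom S G)
    (hf : ∀ s : Finset ι, s.Nonempty → Function.Bijective (f.app s)) (p : ℕ) [Subsingleton (G.H (p + 1))] :
    Subsingleton (S.H (p + 1)) := by
  refine subsingleton_of_forall_eq 0 fun x => ?_
  obtain ⟨z, rfl⟩ := Submodule.mkQ_surjective _ x
  refine (S.cls_eq_zero_iff z).2 ?_
  obtain ⟨b, hb⟩ := (G.cls_eq_zero_iff (f.mapZ (p + 1) z)).1 (Subsingleton.elim _ _)
  have hb' : G.d (p + 1) b = f.mapC (p + 2) (z : S.C (p + 2)) := hb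
  have hne : ∀ {m : ℕ} (σ : Fin (m + 1) → ι), (img σ).Nonempty := fun σ => ⟨_, mem_img σ 0⟩
  choose c hc using fun σ : Fin (p + 1) → ι => (hf _ (hne σ)).2 (b σ)
  refine ⟨c, funext fun σ => (hf _ (hne σ)).1 ?_⟩
  have h := congrFun (f.mapC_d p c) σ
  rw [show f.mapC (p + 1) c = b from funext hc, hb'] at h
  exact h

/-- The trivial action. -/
noncomputable abbrev zRSh {X : TopCat.{u}} (F : CohTop.Ab X) : RSh (ULift.{u} ℤ) X :=
  ⟨F, (Int.castRingHom (End F)).comp (ULift.ringEquiv : ULift.{u} ℤ ≃+* ℤ).toRingHom⟩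

variable {X : TopCat.{u}} (F : CohTop.Ab X) {ι : Type u} (U : ι → Opens X)

lemma addHom_map_smul {R A B : Type u} [Ring R] [AddCommGroup A] [AddCommGroup B] [Module R A] [Module R B]
    (hR : ∀ r : R, ∃ n : ℤ, (n : R) = r) (a : A →+ B) (r : R) (z : A) : a (r • z) = r • a z := by
  obtain ⟨n, rfl⟩ := hR r
  rw [Int.cast_smul_eq_zsmul, Int.cast_smul_eq_zsmul, map_zsmul]

/-- Additive maps are linear over the integers. -/
def linOfAdd {M N : ModuleCat.{u} (ULift.{u} ℤ)} (a : (M : Type u) →+ (N : Type u)) : M →ₗ[ULift.{u} ℤ] N where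
  toFun := a
  map_add' := map_add a
  map_smul' r z := @addHom_map_smul _ _ _ _ _ _ M.isModule N.isModule (fun r => ⟨r.down, rfl⟩) a r z

/-- The union with the topology generated by the family. -/
def CPts (_U : ι → Opens X) : Type u := ((iSup _U : Opens X) : Set X)

/-- The point of the ambient space. -/
def pt (y : CPts U) : X := (y : ((iSup U : Opens X) : Set X)).1

instance instTopCPts : TopologicalSpace (CPts U) := generateFrom (Set.range fun i => pt U ⁻¹' (U i : Set X))

/-- The coarse union. -/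
noncomputable abbrev Coarse : TopCat.{u} := TopCat.of (CPts U)

/-- The map to the coarse union. -/
noncomputable def toCoarse : TopCat.of ((iSup U : Opens X) : Set X) ⟶ Coarse U :=
  TopCat.ofHom ⟨fun y => y, continuous_generateFrom_iff.2
    (by rintro _ ⟨i, rfl⟩; exact (U i).2.preimage continuous_subtype_val)⟩

/-- The members in the coarse union. -/
noncomputable def cU (i : ι) : Opens (Coarse U) := ⟨pt U ⁻¹' (U i : Set X), isOpen_generateFrom_of_mem ⟨i, rfl⟩⟩

/-- The sheaf on the coarse union. -/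
noncomputable def cF : CohTop.Ab (Coarse U) := (CohTop.push (toCoarse U)).obj (CohTop.restr F (iSup U))

/-- An open of the coarse union in the original space. -/
noncomputable abbrev up (V : Opens (Coarse U)) : Opens X :=
  ((iSup U : Opens X)).isOpenEmbedding.functor.obj ((Opens.map (toCoarse U)).obj V)

lemma mem_up {V : Opens (Coarse U)} {x : X} : x ∈ up U V ↔ ∃ h : x ∈ iSup U, (⟨x, h⟩ : Coarse U) ∈ V := by
  constructor
  · rintro ⟨⟨y, hy⟩, hyV, rfl⟩
    exact ⟨hy, hyV⟩
  · rintro ⟨h, hV⟩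
    exact ⟨⟨x, h⟩, hV, rfl⟩

lemma exists_basic {S : Set (Coarse U)} (hS : IsOpen S) :
    ∀ x ∈ S, S = Set.univ ∨ ∃ (p : ℕ) (σ : Fin (p + 1) → ι), (∀ j, pt U x ∈ U (σ j)) ∧
      ∀ y : Coarse U, (∀ j, pt U y ∈ U (σ j)) → y ∈ S := by
  change GenerateOpen _ S at hS
  induction hS with
  | basic s hs =>
    obtain ⟨i, rfl⟩ := hs
    exact fun x hx => Or.inr ⟨0, fun _ => i, fun _ => hx, fun y hy => hy 0⟩
  | univ => exact fun x _ => Or.inl rfl
  | inter s t _ _ ihs iht =>
    rintro x ⟨hxs, hxt⟩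
    rcases ihs x hxs with rfl | ⟨p, σ, hσ, hσ'⟩
    · rw [Set.univ_inter]; exact iht x hxt
    · rcases iht x hxt with rfl | ⟨q, τ, hτ, hτ'⟩
      · rw [Set.inter_univ]; exact Or.inr ⟨p, σ, hσ, hσ'⟩
      · refine Or.inr ⟨p + q + 1, fun j => (Fin.append σ τ) (j.cast (by omega)), fun j => ?_, fun y hy => ?_⟩
        · obtain ⟨k, hk⟩ : ∃ k, Fin.cast (show p + q + 1 + 1 = p + 1 + (q + 1) by omega) j = k := ⟨_, rfl⟩
          dsimp only
          rw [hk]
          clear hk
          induction k using Fin.addCases with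
          | left k => rw [Fin.append_left]; exact hσ k
          | right k => rw [Fin.append_right]; exact hτ k
        · refine ⟨hσ' y fun k => ?_, hτ' y fun k => ?_⟩
          · have h1 := hy ((Fin.castAdd (q + 1) k).cast (by omega))
            simpa [Fin.append_left] using h1
          · have h1 := hy ((Fin.natAdd (p + 1) k).cast (by omega))
            simpa [Fin.append_right] using h1
  | sUnion Ss _ ih =>
    rintro x ⟨s, hs, hx⟩
    rcases ih s hs x hx with rfl | ⟨p, σ, hσ, hσ'⟩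
    · exact Or.inl (Set.eq_univ_of_subset (Set.subset_sUnion_of_mem hs) rfl)
    · exact Or.inr ⟨p, σ, hσ, fun y hy => ⟨s, hs, hσ' y hy⟩⟩

/-- The hypothesis on the family. -/
abbrev Surj : Prop :=
  ∀ (κ : Type u) (a : κ → Σ p : ℕ, Fin (p + 1) → ι),
      Function.Surjective (F.obj.map (homOfLE
        (iSup_le fun k => (iInf_le _ ⟨0, Nat.succ_pos _⟩).trans (le_iSup U ((a k).2 ⟨0, Nat.succ_pos _⟩)) :
          (⨆ k, ⨅ j, U ((a k).2 j)) ≤ iSup U)).op)

variable {F U}

lemma surjective_map {A B : Opens X} (h : B ≤ A) {C : Opens X} (hC : C ≤ A) (e : C = B)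
    (hs : Function.Surjective (F.obj.map (homOfLE hC).op)) : Function.Surjective (F.obj.map (homOfLE h).op) := by
  subst e
  exact hs

lemma surjective_to_up (h : Surj F U) (V : Opens (Coarse U)) (hle : up U V ≤ iSup U) :
    Function.Surjective (F.obj.map (homOfLE hle).op) := by
  by_cases hV : (V : Set (Coarse U)) = Set.univ
  · refine surjective_map hle (C := iSup U) le_rfl (Opens.ext (Set.ext fun x => ⟨fun hx => (mem_up U).2 ⟨hx,
      (Set.eq_univ_iff_forall.1 hV ⟨x, hx⟩ : _)⟩, fun hx => hle hx⟩)) fun y => ⟨y, ?_⟩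
    exact ConcreteCategory.congr_hom (F.obj.map_id _) y
  · let κ := {a : ULift.{u} (Σ p : ℕ, Fin (p + 1) → ι) //
      ∀ y : Coarse U, (∀ j, pt U y ∈ U (a.down.2 j)) → y ∈ V}
    refine surjective_map hle _ (Opens.ext (Set.ext fun x => ?_)) (h κ fun k => k.1.down)
    simp only [Opens.coe_iSup, Set.mem_iUnion, SetLike.mem_coe, mem_up]
    constructor
    · rintro ⟨k, hk⟩
      have hk' : ∀ j, x ∈ U (k.1.down.2 j) := fun j => (iInf_le (fun j => U (k.1.down.2 j)) j) hk
      exact ⟨(le_iSup U _) (hk' 0), k.2 _ hk'⟩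
    · rintro ⟨hx, hxV⟩
      rcases exists_basic U V.2 ⟨x, hx⟩ hxV with h1 | ⟨p, σ, hσ, hσ'⟩
      · exact absurd h1 hV
      · refine ⟨⟨⟨⟨p, σ⟩⟩, hσ'⟩, ?_⟩
        have hmem : x ∈ (⋂ j, (U (σ j) : Set X)) := Set.mem_iInter.2 hσ
        rw [← Opens.coe_iInf] at hmem
        exact hmem

lemma up_le (V : Opens (Coarse U)) : up U V ≤ iSup U := fun _ hx => ((mem_up U).1 hx).1

lemma isFlasque_cF (h : Surj F U) : TopCat.Sheaf.IsFlasque (cF F U) := by
  refine ⟨fun {V V'} i => (AddCommGrpCat.epi_iff_surjective _).2 fun y => ?_⟩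
  obtain ⟨z, hz⟩ := surjective_to_up h V'.unop (up_le V'.unop) y
  refine ⟨F.obj.map (homOfLE (up_le V.unop)).op z, ?_⟩
  refine Eq.trans ?_ hz
  change F.obj.map _ (F.obj.map _ z) = _
  rw [← ConcreteCategory.comp_apply, ← Functor.map_comp]
  rfl

lemma mem_meetOpen {Y : TopCat.{u}} {κ : Type u} {V : κ → Opens Y} {s : Finset κ} {y : Y} (h : ∀ i ∈ s, y ∈ V i) :
    y ∈ RSh.meetOpen V s := by
  change y ∈ ⨅ i ∈ s, V i
  rw [← Finset.inf_eq_iInf]
  induction s using Finset.cons_induction with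
  | empty => simp
  | cons a t ha ih =>
    rw [Finset.inf_cons]
    exact ⟨h a (Finset.mem_cons_self a t), ih fun i hi => h i (Finset.mem_cons_of_mem hi)⟩

lemma coarse_iso (F : CohTop.Ab X) [DecidableEq ι] :
    ∃ f : Sys.Hom ((zRSh F).sys U) ((zRSh (cF F U)).sys (cU U)),
      ∀ s : Finset ι, s.Nonempty → Function.Bijective (f.app s) := by
  have hle : ∀ s : Finset ι, up U (RSh.meetOpen (cU U) s) ≤ RSh.meetOpen U s := fun s x hx => by
    obtain ⟨h, hx⟩ := (mem_up U).1 hx
    have h1 : ∀ i ∈ s, x ∈ U i := fun i hi =>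
      (iInf₂_le i hi : RSh.meetOpen (cU U) s ≤ cU U i) hx
    exact mem_meetOpen h1
  let a : ∀ s : Finset ι, (((zRSh F).sys U).obj s : Type u) →+ (((zRSh (cF F U)).sys (cU U)).obj s : Type u) :=
    fun s => (F.obj.map (homOfLE (hle s)).op).hom
  refine ⟨{ app := fun s => linOfAdd (a s), nat := fun {s t} hst z _ => ?_ }, fun s hs => ?_⟩
  · change F.obj.map _ (F.obj.map _ z) = F.obj.map _ (F.obj.map _ z)
    rw [← ConcreteCategory.comp_apply, ← Functor.map_comp, ← ConcreteCategory.comp_apply, ← Functor.map_comp]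
    rfl
  · have he : up U (RSh.meetOpen (cU U) s) = RSh.meetOpen U s := le_antisymm (hle s) fun x hx => by
      obtain ⟨i₀, hi₀⟩ := hs
      have h1 : ∀ i ∈ s, x ∈ U i := fun i hi => (iInf₂_le i hi : RSh.meetOpen U s ≤ U i) hx
      exact (mem_up U).2 ⟨(le_iSup U i₀) (h1 i₀ hi₀), mem_meetOpen h1⟩
    haveI : IsIso (homOfLE (hle s)) := ⟨homOfLE he.ge, Subsingleton.elim _ _, Subsingleton.elim _ _⟩
    exact ConcreteCategory.bijective_of_isIso (F.obj.map (homOfLE (hle s)).op)

/-- Vanishing. -/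
theorem isZero_cechH (h : Surj F U) (p : ℕ) : IsZero (CohTop.cechH F.obj U (p + 1)) := by
  classical
  haveI := isFlasque_cF h
  haveI := S0455.subsingleton_H_of_flasque (cU U) p (zRSh (cF F U)) ‹_›
  obtain ⟨f, hf⟩ := coarse_iso (U := U) F
  haveI := subsingleton_H_of_hom f hf p
  obtain ⟨e⟩ := CechCmp.nonempty_cechH_equiv U (zRSh F) (p + 1)
  exact AddCommGrpCat.isZero_iff_subsingleton.2 e.toEquiv.subsingleton

end Groth.Agent.CechSurj
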